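import Mathlib.CategoryTheory.Limits.FormalCoproducts.Cech
import Mathlib.AlgebraicTopology.SimplicialObject.Homotopy

/-! # Two maps of formal coproducts give homotopic maps of Čech objects -/

set_option autoImplicit false
set_option backward.isDefEq.respectTransparency false
set_option backward.defeqAttrib.useBackward true

universe w v u

open CategoryTheory CategoryTheory.Limits Opposite Simplicial

namespace Groth.Agent.CechRefine

open FormalCoproduct

variable {C : Type u} [Category.{v} C] [HasFiniteProducts C]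
variable {U V : FormalCoproduct.{w} C} (f g : U ⟶ V)

lemma power_hom_ext {W : FormalCoproduct.{w} C} {α : Type} [HasProductsOfShape α C]
    {a b : W ⟶ V.power α} (h : ∀ t, a ≫ V.powerπ t = b ≫ V.powerπ t) : a = b :=
  Fan.IsLimit.hom_ext (V.isLimitPowerFan α) _ _ h

lemma powerMap_π {α : Type} [HasProductsOfShape α C] (a : α) :
    powerMap f α ≫ V.powerπ a = U.powerπ a ≫ f := by
  ext <;> simp

noncomputable def mix {α β : Type} [HasProductsOfShape α C] [HasProductsOfShape β C]
    (a : β → α) (b : β → Prop) [DecidablePred b] : U.power α ⟶ V.power β :=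
  Fan.IsLimit.desc (V.isLimitPowerFan β) (fun t => U.powerπ (a t) ≫ if b t then g else f)

lemma mix_π {α β : Type} [HasProductsOfShape α C] [HasProductsOfShape β C]
    (a : β → α) (b : β → Prop) [DecidablePred b] (t : β) :
    mix f g a b ≫ V.powerπ t = U.powerπ (a t) ≫ (if b t then g else f) :=
  Fan.IsLimit.fac _ _ t

lemma mix_mapPower {α β γ : Type} [HasProductsOfShape α C] [HasProductsOfShape β C]
    [HasProductsOfShape γ C] (a : β → α) (b : β → Prop) [DecidablePred b] (c : γ → β) :
    mix f g a b ≫ V.mapPower c = mix f g (a ∘ c) (fun t => b (c t)) := by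
  refine power_hom_ext fun t => ?_
  rw [Category.assoc, mapPower_π, mix_π, mix_π]
  rfl

lemma mapPower_mix {α β γ : Type} [HasProductsOfShape α C] [HasProductsOfShape β C]
    [HasProductsOfShape γ C] (a : β → α) (b : β → Prop) [DecidablePred b] (c : α → γ) :
    U.mapPower c ≫ mix f g a b = mix f g (c ∘ a) b := by
  refine power_hom_ext fun t => ?_
  rw [Category.assoc, mix_π, mix_π, mapPower_π_assoc]
  rfl

lemma mix_congr {α β : Type} [HasProductsOfShape α C] [HasProductsOfShape β C]
    {a a' : β → α} {b b' : β → Prop} [DecidablePred b] [DecidablePred b']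
    (ha : ∀ t, a t = a' t) (hb : ∀ t, b t ↔ b' t) : mix f g a b = mix f g a' b' := by
  refine power_hom_ext fun t => ?_
  rw [mix_π, mix_π, ha t]
  by_cases h : b t
  · rw [if_pos h, if_pos ((hb t).1 h)]
  · rw [if_neg h, if_neg (fun h' => h ((hb t).2 h'))]

lemma cech_δ (W : FormalCoproduct.{w} C) {n : ℕ} (i : Fin (n + 2)) :
    (W.cech).δ i = W.mapPower (Fin.succAbove i) := rfl

lemma cech_σ (W : FormalCoproduct.{w} C) {n : ℕ} (i : Fin (n + 1)) :
    (W.cech).σ i = W.mapPower (Fin.predAbove i) := rfl

noncomputable def hh {n : ℕ} (i : Fin (n + 1)) : U.power (Fin (n + 1)) ⟶ V.power (Fin (n + 2)) :=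
  mix f g (Fin.predAbove i) (fun t => i.castSucc < t)

macro "fin_arith" : tactic => `(tactic| (
  intros
  simp only [Function.comp_apply, Fin.succAbove, Fin.predAbove, Fin.lt_def, Fin.le_def, Fin.ext_iff, Fin.val_castSucc, Fin.val_succ, Fin.val_last, Fin.val_zero, apply_dite Fin.val, apply_ite Fin.val, Fin.val_pred, Fin.coe_castPred] at *
  (try split_ifs at *) <;> (try simp only [Fin.ext_iff, Fin.val_castSucc, Fin.val_succ, Fin.val_pred, Fin.coe_castPred, Fin.lt_def] at *) <;> omega))

noncomputable def cechHomotopy :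
    SimplicialObject.Homotopy (cechFunctor.map f) (cechFunctor.map g) where
  h i := hh f g i
  h_zero_comp_δ_zero n := by
    refine power_hom_ext fun t => ?_
    show (hh f g 0 ≫ V.mapPower (Fin.succAbove 0)) ≫ _ = powerMap g _ ≫ _
    rw [Category.assoc, mapPower_π, hh, mix_π, powerMap_π, Fin.succAbove_zero]
    rw [if_pos (show Fin.castSucc (0 : Fin (n + 1)) < Fin.succ t from Fin.succ_pos t)]
    congr 2
  h_last_comp_δ_last n := by
    refine power_hom_ext fun t => ?_
    show (hh f g (Fin.last n) ≫ V.mapPower (Fin.succAbove (Fin.last (n + 1)))) ≫ _ = powerMap f _ ≫ _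
    rw [Category.assoc, mapPower_π, hh, mix_π, powerMap_π, Fin.succAbove_last]
    rw [if_neg (not_lt.2 (Fin.castSucc_le_castSucc_iff.2 (Fin.le_last t)))]
    simp
  h_succ_comp_δ_castSucc_of_lt i j hij := by
    show hh f g j.succ ≫ V.mapPower (Fin.succAbove i.castSucc) = U.mapPower (Fin.succAbove i) ≫ hh f g j
    rw [hh, hh, mix_mapPower, mapPower_mix]
    refine mix_congr f g ?_ ?_ <;> fin_arith
  h_succ_comp_δ_castSucc_succ j := by
    show hh f g j.succ ≫ V.mapPower (Fin.succAbove j.castSucc.succ) = hh f g j.castSucc ≫ V.mapPower (Fin.succAbove j.castSucc.succ)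
    rw [hh, hh, mix_mapPower, mix_mapPower]
    refine mix_congr f g ?_ ?_ <;> fin_arith
  h_castSucc_comp_δ_succ_of_lt i j hji := by
    show hh f g j.castSucc ≫ V.mapPower (Fin.succAbove i.succ) = U.mapPower (Fin.succAbove i) ≫ hh f g j
    rw [hh, hh, mix_mapPower, mapPower_mix]
    refine mix_congr f g ?_ ?_ <;> fin_arith
  h_comp_σ_castSucc_of_le i j hij := by
    show hh f g j ≫ V.mapPower (Fin.predAbove i.castSucc) = U.mapPower (Fin.predAbove i) ≫ hh f g j.succ
    rw [hh, hh, mix_mapPower, mapPower_mix]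
    refine mix_congr f g ?_ ?_ <;> fin_arith
  h_comp_σ_succ_of_lt i j hji := by
    show hh f g j ≫ V.mapPower (Fin.predAbove i.succ) = U.mapPower (Fin.predAbove i) ≫ hh f g j.castSucc
    rw [hh, hh, mix_mapPower, mapPower_mix]
    refine mix_congr f g ?_ ?_ <;> fin_arith

end Groth.Agent.CechRefine
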